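import Groth.Prelude.Def_DualGr
import Mathlib

/-!
# The thickness ideal of a formal node is unique
-/

set_option autoImplicit false
set_option linter.style.haveILetI false
universe u
open IsLocalRing

namespace Groth.Agent.NodeUnique13

/-- The elementary computation. -/
theorem core {S : Type u} [CommRing S] [IsLocalRing S] (n : ℕ) (hn : maximalIdeal S ^ n = ⊥)
    (U V α β W : PowerSeries S) (b : S) (hU : PowerSeries.coeff 0 U ∈ maximalIdeal S)
    (hV : PowerSeries.coeff 0 V ∈ maximalIdeal S) (hW : PowerSeries.coeff 1 W ∈ maximalIdeal S)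
    (hUV : U * V = PowerSeries.C b) (hT : PowerSeries.X = W + U * α + V * β) : b = 0 := by
  have key : ∀ U V : PowerSeries S, PowerSeries.coeff 0 U ∈ maximalIdeal S → U * V = PowerSeries.C b →
      IsUnit (PowerSeries.coeff 1 U) → b = 0 := by
    intro U V hU hUV hu
    have hv : ∀ j k, PowerSeries.coeff k V ∈ maximalIdeal S ^ j := by
      intro j
      induction j with
      | zero => intro k; simp
      | succ j ih =>
        intro k
        induction k using Nat.strong_induction_on with
        | _ k ihk =>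
          have h := congrArg (PowerSeries.coeff (k + 1)) hUV
          rw [PowerSeries.coeff_mul, PowerSeries.coeff_C, if_neg (Nat.succ_ne_zero k)] at h
          rw [← Finset.add_sum_erase _ _ (show ((1, k) : ℕ × ℕ) ∈ Finset.HasAntidiagonal.antidiagonal (k + 1) by
            simp [Finset.HasAntidiagonal.mem_antidiagonal, add_comm])] at h
          rw [← (maximalIdeal S ^ (j + 1)).unit_mul_mem_iff_mem hu, eq_neg_of_add_eq_zero_left h]
          refine neg_mem (sum_mem fun x hx => ?_)
          rw [Finset.mem_erase, Finset.HasAntidiagonal.mem_antidiagonal] at hx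
          rcases Nat.eq_zero_or_pos x.1 with h0 | h0
          · rw [h0, pow_succ']
            exact Ideal.mul_mem_mul hU (ih _)
          · refine Ideal.mul_mem_left _ _ (ihk _ ?_)
            have : x.1 ≠ 1 := fun h1 => hx.1 (Prod.ext h1 (by have := hx.2; simp at *; omega))
            omega
    have h0 := congrArg (PowerSeries.coeff 0) hUV
    rw [PowerSeries.coeff_zero_eq_constantCoeff_apply, map_mul, PowerSeries.coeff_zero_C] at h0
    have := hv n 0
    rw [hn, Ideal.mem_bot, PowerSeries.coeff_zero_eq_constantCoeff_apply] at this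
    rw [← h0, this, mul_zero]
  by_contra hb
  have hu : PowerSeries.coeff 1 U ∈ maximalIdeal S := fun h => hb (key U V hU hUV h)
  have hv : PowerSeries.coeff 1 V ∈ maximalIdeal S := fun h => hb (key V U hV (by rw [mul_comm, hUV]) h)
  have h1 := congrArg (PowerSeries.coeff 1) hT
  rw [PowerSeries.coeff_one_X, map_add, map_add] at h1
  have hm : ∀ P Q : PowerSeries S, PowerSeries.coeff 0 P ∈ maximalIdeal S →
      PowerSeries.coeff 1 P ∈ maximalIdeal S → PowerSeries.coeff 1 (P * Q) ∈ maximalIdeal S := by
    intro P Q h0 h1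
    rw [PowerSeries.coeff_mul]
    refine sum_mem fun x hx => Ideal.mul_mem_right _ _ ?_
    rw [Finset.HasAntidiagonal.mem_antidiagonal] at hx
    rcases Nat.eq_zero_or_pos x.1 with h | h
    · rw [h]; exact h0
    · rw [show x.1 = 1 by omega]; exact h1
  have h2 : (1 : S) ∈ maximalIdeal S := h1 ▸ add_mem (add_mem hW (hm U α hU hu)) (hm V β hV hv)
  exact (maximalIdeal S).ne_top_iff_one.1 (maximalIdeal.isMaximal S).ne_top h2

variable {R : Type u} [CommRing R]

/-- Restriction of a power series in two variables to the first axis. -/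
noncomputable def axis : MvPowerSeries (Fin 2) R →+* PowerSeries R where
  toFun f := PowerSeries.mk fun k => MvPowerSeries.coeff (Finsupp.single 0 k) f
  map_zero' := by ext k; simp
  map_add' f g := by ext k; simp
  map_one' := by
    ext k
    rw [PowerSeries.coeff_mk, MvPowerSeries.coeff_one, PowerSeries.coeff_one]
    simp only [Finsupp.single_eq_zero]
  map_mul' f g := by
    ext k
    rw [PowerSeries.coeff_mk, MvPowerSeries.coeff_mul, PowerSeries.coeff_mul, Finsupp.antidiagonal_single,
      Finset.sum_map]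
    simp

theorem coeff_axis (f : MvPowerSeries (Fin 2) R) (k : ℕ) :
    PowerSeries.coeff k (axis f) = MvPowerSeries.coeff (Finsupp.single 0 k) f := by
  show PowerSeries.coeff k (PowerSeries.mk fun k => MvPowerSeries.coeff (Finsupp.single 0 k) f) = _
  rw [PowerSeries.coeff_mk]

theorem axis_C (c : R) : axis (MvPowerSeries.C (σ := Fin 2) c) = PowerSeries.C c := by
  ext k
  rw [coeff_axis, MvPowerSeries.coeff_C, PowerSeries.coeff_C]
  simp only [Finsupp.single_eq_zero]

theorem axis_X0 : axis (MvPowerSeries.X (0 : Fin 2) : MvPowerSeries (Fin 2) R) = PowerSeries.X := by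
  ext k
  rw [coeff_axis, MvPowerSeries.coeff_X, PowerSeries.coeff_X]
  simp only [Finsupp.single_left_inj, Finsupp.single_injective (0 : Fin 2) |>.eq_iff]

theorem axis_X1 : axis (MvPowerSeries.X (1 : Fin 2) : MvPowerSeries (Fin 2) R) = 0 := by
  ext k
  rw [coeff_axis, MvPowerSeries.coeff_X, map_zero, if_neg]
  intro h
  have := congrArg (fun d : Fin 2 →₀ ℕ => d 1) h
  simp at this

theorem exists_decomp (z : MvPowerSeries (Fin 2) R) :
    ∃ α β, z = MvPowerSeries.C (MvPowerSeries.constantCoeff z) + MvPowerSeries.X 0 * α +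
      MvPowerSeries.X 1 * β := by
  let w : MvPowerSeries (Fin 2) R := fun d => if d 0 = 0 then MvPowerSeries.coeff d z else 0
  have hw : ∀ d, MvPowerSeries.coeff d w = if d 0 = 0 then MvPowerSeries.coeff d z else 0 := fun d => rfl
  obtain ⟨α, hα⟩ : MvPowerSeries.X (0 : Fin 2) ∣ z - w := by
    rw [MvPowerSeries.X_dvd_iff]
    intro m hm
    rw [map_sub, hw, if_pos hm, sub_self]
  obtain ⟨β, hβ⟩ : MvPowerSeries.X (1 : Fin 2) ∣ w - MvPowerSeries.C (MvPowerSeries.constantCoeff z) := by
    rw [MvPowerSeries.X_dvd_iff]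
    intro m hm
    rw [map_sub, hw, MvPowerSeries.coeff_C]
    by_cases h0 : m 0 = 0
    · have : m = 0 := by ext i; fin_cases i <;> assumption
      subst this
      simp
    · rw [if_neg h0, if_neg (fun h => h0 (by rw [h]; rfl)), sub_self]
  refine ⟨α, β, ?_⟩
  rw [← hα, ← hβ]
  ring

theorem mem_span [IsNoetherianRing R] [IsLocalRing R] {A : Type u} [CommRing A] [IsLocalRing A]
    (φ : R →+* A) (a b : R) (ha : a ∈ maximalIdeal R)
    (h₁ : DualGr.IsThickNode φ a) (h₂ : DualGr.IsThickNode φ b) : b ∈ Ideal.span {a} := by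
  obtain ⟨eA, hA⟩ := h₁
  obtain ⟨eB, hB⟩ := h₂
  have key : ∀ n, b ∈ Ideal.span {a} ⊔ maximalIdeal R ^ (n + 1) := by
    intro n
    let I : Ideal R := Ideal.span {a} ⊔ maximalIdeal R ^ (n + 1)
    let S := R ⧸ I
    have hI : I ≤ maximalIdeal R := sup_le ((Ideal.span_singleton_le_iff_mem _).2 ha)
      (Ideal.pow_le_self (Nat.succ_ne_zero n))
    haveI : Nontrivial S := Ideal.Quotient.nontrivial_iff.2 (fun h => (maximalIdeal.isMaximal R).ne_top (top_le_iff.1 (h ▸ hI)))
    haveI : IsLocalRing S := IsLocalRing.of_surjective' (Ideal.Quotient.mk I) Ideal.Quotient.mk_surjective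
    have hmax : maximalIdeal S = (maximalIdeal R).map (Ideal.Quotient.mk I) :=
      (IsLocalRing.eq_maximalIdeal ((Ideal.map_eq_top_or_isMaximal_of_surjective _ Ideal.Quotient.mk_surjective
        (maximalIdeal.isMaximal R)).resolve_left (fun h => by
          have := congrArg (Ideal.comap (Ideal.Quotient.mk I)) h
          rw [Ideal.comap_map_of_surjective _ Ideal.Quotient.mk_surjective, ← RingHom.ker_eq_comap_bot,
            Ideal.mk_ker, sup_eq_left.2 hI, Ideal.comap_top] at this
          exact (maximalIdeal.isMaximal R).ne_top this))).symm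
    have hnil : maximalIdeal S ^ (n + 1) = ⊥ := by
      rw [hmax, ← Ideal.map_pow, (Ideal.map_eq_bot_iff_le_ker (Ideal.Quotient.mk I)).2 (by rw [Ideal.mk_ker]; exact le_sup_right)]
    let ρ : Curv2.cpl R →+* S :=
      (Ideal.Quotient.factor (le_sup_right : maximalIdeal R ^ (n + 1) ≤ I)).comp
        (AdicCompletion.evalₐ (maximalIdeal R) (n + 1)).toRingHom
    have hρ : ∀ r, ρ (algebraMap R (Curv2.cpl R) r) = Ideal.Quotient.mk I r := fun r => by
      simp only [ρ, RingHom.comp_apply, AlgHom.toRingHom_eq_coe, RingHom.coe_coe, AlgHom.commutes,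
        Ideal.Quotient.algebraMap_eq, Ideal.Quotient.factor_mk]
      rfl
    have hρsurj : Function.Surjective ρ := fun x => by
      obtain ⟨r, rfl⟩ := Ideal.Quotient.mk_surjective x
      exact ⟨_, hρ r⟩
    let π : MvPowerSeries (Fin 2) (Curv2.cpl R) →+* PowerSeries S := (PowerSeries.map ρ).comp axis
    let φA : DualGr.nodeRing R a →+* PowerSeries S := Ideal.Quotient.lift _ π (by
      intro x hx
      obtain ⟨y, rfl⟩ := Ideal.mem_span_singleton'.1 hx
      have h0 : π (MvPowerSeries.X 0 * MvPowerSeries.X 1 - MvPowerSeries.C (algebraMap R (Curv2.cpl R) a)) = 0 := by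
        simp only [π, RingHom.comp_apply, map_sub, map_mul, axis_X1, axis_C, PowerSeries.map_C, mul_zero,
          map_zero, zero_sub, neg_eq_zero, hρ]
        rw [Ideal.Quotient.eq_zero_iff_mem.2 (show a ∈ I from
          Ideal.mem_sup_left (Ideal.mem_span_singleton_self a)), map_zero]
      rw [map_mul, h0, mul_zero])
    let Φ : MvPowerSeries (Fin 2) (Curv2.cpl R) →+* PowerSeries S :=
      φA.comp ((eB.symm.trans eA).toRingHom.comp (Ideal.Quotient.mk _))
    have hΦC : ∀ r, Φ (MvPowerSeries.C (algebraMap R (Curv2.cpl R) r)) = PowerSeries.C (Ideal.Quotient.mk I r) := by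
      intro r
      show φA (eA (eB.symm _)) = _
      rw [← hB r, RingEquiv.symm_apply_apply, hA r]
      show π _ = _
      simp only [π, RingHom.comp_apply, axis_C, PowerSeries.map_C, hρ]
    obtain ⟨z, hz⟩ : ∃ z, Φ z = PowerSeries.X := by
      obtain ⟨z, hz⟩ := Ideal.Quotient.mk_surjective (eB (eA.symm (Ideal.Quotient.mk _ (MvPowerSeries.X 0))))
      refine ⟨z, ?_⟩
      show φA (eA (eB.symm (Ideal.Quotient.mk _ z))) = _
      rw [hz, RingEquiv.symm_apply_apply, RingEquiv.apply_symm_apply]
      show π _ = _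
      simp only [π, RingHom.comp_apply, axis_X0, PowerSeries.map_X]
    have hsurj : Function.Surjective Φ := by
      intro y
      obtain ⟨y', hy'⟩ := PowerSeries.map_surjective ρ hρsurj y
      let f : MvPowerSeries (Fin 2) (Curv2.cpl R) := fun d => if d 1 = 0 then PowerSeries.coeff (d 0) y' else 0
      have hf : axis f = y' := by
        refine PowerSeries.ext fun k => ?_
        rw [coeff_axis]
        show (if (Finsupp.single (0 : Fin 2) k) 1 = 0 then
          PowerSeries.coeff ((Finsupp.single (0 : Fin 2) k) 0) y' else 0) = _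
        simp
      obtain ⟨w, hw⟩ := Ideal.Quotient.mk_surjective (eB (eA.symm (Ideal.Quotient.mk _ f)))
      refine ⟨w, ?_⟩
      show φA (eA (eB.symm (Ideal.Quotient.mk _ w))) = _
      rw [hw, RingEquiv.symm_apply_apply, RingEquiv.apply_symm_apply]
      show π f = _
      simp only [π, RingHom.comp_apply, hf, hy']
    have hloc : ∀ x, ¬ IsUnit x → PowerSeries.coeff 0 (Φ x) ∈ maximalIdeal S := by
      intro x hx
      intro hu
      rw [PowerSeries.coeff_zero_eq_constantCoeff_apply, ← PowerSeries.isUnit_iff_constantCoeff] at hu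
      obtain ⟨y, hy⟩ := hsurj (↑hu.unit⁻¹)
      have h1 : Φ (1 - x * y) = 0 := by
        rw [map_sub, map_one, map_mul, hy, IsUnit.mul_val_inv, sub_self]
      have h2 : IsUnit (1 - x * y) := IsLocalRing.isUnit_one_sub_self_of_mem_nonunits _
        ((mul_mem_nonunits_left hx))
      exact not_isUnit_zero (h1 ▸ h2.map Φ)
    have hnu : ∀ x : MvPowerSeries (Fin 2) (Curv2.cpl R),
        MvPowerSeries.constantCoeff x = 0 → ¬ IsUnit x := fun x hx h => by
      rw [MvPowerSeries.isUnit_iff_constantCoeff, hx] at h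
      exact not_isUnit_zero h
    have hz' : ¬ IsUnit z := fun h => by
      have := h.map Φ
      rw [hz, PowerSeries.isUnit_iff_constantCoeff, PowerSeries.constantCoeff_X] at this
      exact not_isUnit_zero this
    obtain ⟨α, β, hdec⟩ := exists_decomp z
    have hc : MvPowerSeries.constantCoeff z ∈ (maximalIdeal R).map (algebraMap R (Curv2.cpl R)) := by
      rw [← AdicCompletion.maximalIdeal_eq_map, IsLocalRing.mem_maximalIdeal, mem_nonunits_iff,
        ← MvPowerSeries.isUnit_iff_constantCoeff]
      exact hz'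
    have hW : PowerSeries.coeff 1 (Φ (MvPowerSeries.C (MvPowerSeries.constantCoeff z))) ∈ maximalIdeal S := by
      let q := (PowerSeries.map (Ideal.Quotient.mk (maximalIdeal S))).comp (Φ.comp MvPowerSeries.C)
      have hq : (maximalIdeal R).map (algebraMap R (Curv2.cpl R)) ≤ RingHom.ker q := by
        rw [Ideal.map_le_iff_le_comap]
        intro r hr
        rw [Ideal.mem_comap, RingHom.mem_ker]
        simp only [q, RingHom.comp_apply]
        rw [hΦC, PowerSeries.map_C, Ideal.Quotient.eq_zero_iff_mem.2 (hmax ▸ Ideal.mem_map_of_mem _ hr), map_zero]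
      have := congrArg (PowerSeries.coeff 1) (RingHom.mem_ker.1 (hq hc))
      rw [map_zero] at this
      exact Ideal.Quotient.eq_zero_iff_mem.1 ((PowerSeries.coeff_map _ _ _).symm.trans this)
    refine Ideal.Quotient.eq_zero_iff_mem.1 (core (n + 1) hnil (Φ (MvPowerSeries.X 0)) (Φ (MvPowerSeries.X 1))
      (Φ α) (Φ β) (Φ (MvPowerSeries.C (MvPowerSeries.constantCoeff z))) (Ideal.Quotient.mk I b)
      (hloc _ (hnu _ (MvPowerSeries.constantCoeff_X 0))) (hloc _ (hnu _ (MvPowerSeries.constantCoeff_X 1)))
      hW ?_ ?_)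
    · rw [← hΦC, ← map_mul]
      show φA ((eB.symm.trans eA) (Ideal.Quotient.mk _ _)) = φA ((eB.symm.trans eA) (Ideal.Quotient.mk _ _))
      congr 2
      rw [Ideal.Quotient.eq]
      exact Ideal.mem_span_singleton_self _
    · rw [← hz, ← map_mul, ← map_mul, ← map_add, ← map_add, ← hdec]
  have hbot := Ideal.iInf_pow_eq_bot_of_isLocalRing (R := R ⧸ Ideal.span {a})
  by_contra hb
  have hne : Ideal.span {a} ≠ ⊤ := fun h => (maximalIdeal.isMaximal R).ne_top
    (top_le_iff.1 (h ▸ (Ideal.span_singleton_le_iff_mem _).2 ha))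
  haveI : Nontrivial (R ⧸ Ideal.span {a}) := Ideal.Quotient.nontrivial_iff.2 hne
  haveI : IsLocalRing (R ⧸ Ideal.span {a}) :=
    IsLocalRing.of_surjective' (Ideal.Quotient.mk _) Ideal.Quotient.mk_surjective
  refine hb (Ideal.Quotient.eq_zero_iff_mem.1 ?_)
  have hmem : Ideal.Quotient.mk (Ideal.span {a}) b ∈ ⨅ k, (maximalIdeal (R ⧸ Ideal.span {a})) ^ k := by
    refine Submodule.mem_iInf _ |>.2 fun k => ?_
    rcases k with _ | k
    · simp
    · have h := Ideal.mem_map_of_mem (Ideal.Quotient.mk (Ideal.span {a})) (key k)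
      rw [Ideal.map_sup, Ideal.map_quotient_self, bot_sup_eq, Ideal.map_pow] at h
      refine Ideal.pow_right_mono ?_ _ h
      rw [Ideal.map_le_iff_le_comap]
      intro r hr
      rw [Ideal.mem_comap, IsLocalRing.mem_maximalIdeal, mem_nonunits_iff]
      intro hu
      obtain ⟨s, hs⟩ := Ideal.Quotient.mk_surjective (↑hu.unit⁻¹ : R ⧸ Ideal.span {a})
      have : 1 - r * s ∈ maximalIdeal R := (Ideal.span_singleton_le_iff_mem _).2 ha
        (Ideal.Quotient.eq_zero_iff_mem.1 (by rw [map_sub, map_one, map_mul, hs, IsUnit.mul_val_inv, sub_self]))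
      have h1 := add_mem this (Ideal.mul_mem_right s _ hr)
      rw [sub_add_cancel] at h1
      exact (maximalIdeal R).ne_top_iff_one.1 (maximalIdeal.isMaximal R).ne_top h1
  rw [hbot (IsLocalRing.maximalIdeal _) (maximalIdeal.isMaximal _).ne_top] at hmem
  exact hmem

end Groth.Agent.NodeUnique13
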